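import Cfsg.Agent.Lib.Chev.Functorial

/-!
The centralizer of a regular diagonal element is the diagonal subgroup.
-/

set_option autoImplicit false

namespace CfsgLib.Chev.Cert

open Cfsg.Lie Matrix

variable {D : ChevalleyDatum} {T : Tab} {C : Tab.Cover} (h : Cert D T C) {F : Type*} [Field F]
include h

/-- A regular diagonal element (the roots take pairwise distinct values, none equal to one)
commutes only with diagonal elements. -/
theorem mem_diagonal_of_commute {c : ℕ → F} (hc : ∀ i < T.l, c i ≠ 0) {k g : GL D.Idx F}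
    (ek : (k : Matrix D.Idx D.Idx F) = torus D (charOf T c))
    (hne : ∀ r < T.n, charOf T c r ≠ 1)
    (hinj : ∀ r < T.n, ∀ s < T.n, charOf T c r = charOf T c s → r = s)
    (hg : g ∈ D.group F) (hcom : k * g = g * k) : g ∈ D.diagonalSubgroup F := by
  have hk : k ∈ D.diagonalSubgroup F := h.mem_diagonalSubgroup_iff.2 ⟨c, hc, ek⟩
  have key : ∀ r < T.n, ∀ y : F, k * X D r y * k⁻¹ = X D r (charOf T c r * y) := by
    intro r hr y
    rw [mul_inv_eq_iff_eq_mul]
    refine Units.ext ?_
    rw [Units.val_mul, Units.val_mul, h.coe_X, h.coe_X, ek,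
      h.torus_mul_x (h.isChar_charOf hc) hr]
  -- fixed unipotent elements are trivial
  have hU : ∀ x ∈ D.posUnipotent F, k * x * k⁻¹ = x → x = 1 := by
    intro x hx hfix
    obtain ⟨p, rfl⟩ := h.mem_posUnipotent_iff.1 hx
    have hconj : k * prodX D (posList T) p * k⁻¹ =
        prodX D (posList T) fun r => charOf T c r * p r := by
      show MulAut.conj k (prodX D (posList T) p) = _
      simp only [prodX, map_list_prod, List.map_map]
      exact congrArg List.prod (List.map_congr_left fun r hr => key r (mem_posList.1 hr).2 (p r))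
    have h0 : ∀ r ∈ posList T, p r = 0 := by
      intro r hr
      have h1 := h.prodX_inj _ sortedLT_posList (fun r hr => mem_posList.1 hr) _ _
        (hconj.symm.trans hfix) r hr
      by_contra hp
      exact hne r (mem_posList.1 hr).2 (mul_right_cancel₀ hp (h1.trans (one_mul _).symm))
    refine List.prod_eq_one fun y hy => ?_
    obtain ⟨r, hr, rfl⟩ := List.mem_map.1 hy
    rw [h0 r hr]; exact h.X_zero (mem_posList.1 hr).2
  obtain ⟨b, hb, n, hn, u, hu, rfl⟩ := h.bruhat_exists hg
  obtain ⟨v, hv, t, ht, rfl⟩ := h.mem_borel_iff.1 hb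
  have hkn : n * k⁻¹ * n⁻¹ ∈ D.diagonalSubgroup F :=
    (Subgroup.mem_normalizer_iff.1 (h.monomial_le_normalizer_diagonal hn) k⁻¹).1 (inv_mem hk)
  have hu' : k * u * k⁻¹ ∈ cellUnipotent D F n := by
    obtain ⟨π, hπ, -⟩ := h.exists_perm hn
    rw [h.cellUnipotent_eq fun r hr => ⟨(hπ r hr).1, (hπ r hr).2.1⟩] at hu ⊢
    exact (Subgroup.mem_normalizer_iff.1 (h.diagonal_le_normalizer_gen
      (fun r (hr : r ∈ posSet T \ {r | T.half ≤ π r}) => hr.1.2) hk) u).1 hu
  have hb' : k * (v * t) * (n * k⁻¹ * n⁻¹) ∈ D.borelSubgroup F :=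
    mul_mem (mul_mem (Subgroup.mem_sup_right hk) hb) (Subgroup.mem_sup_right hkn)
  have e : k * (v * t) * (n * k⁻¹ * n⁻¹) * n * (k * u * k⁻¹) = v * t * n * u := by
    calc _ = k * (v * t * n * u) * k⁻¹ := by group
      _ = _ := by rw [hcom, mul_inv_cancel_right]
  obtain ⟨e1, e2⟩ := (h.bruhat_unique hb' hb hn hn hu' hu e).2 rfl
  have hupos : u ∈ D.posUnipotent F := by
    obtain ⟨π, hπ, -⟩ := h.exists_perm hn
    rw [h.cellUnipotent_eq fun r hr => ⟨(hπ r hr).1, (hπ r hr).2.1⟩] at hu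
    exact h.gen_pos_le (fun r hr => hr.1) hu
  have hu1 : u = 1 := hU u hupos e2
  subst hu1
  rw [mul_one] at hcom ⊢
  have hvk : k * v * k⁻¹ ∈ D.posUnipotent F :=
    (Subgroup.mem_normalizer_iff.1 (h.diagonal_le_normalizer_posUnipotent hk) v).1 hv
  have hv1 : v = 1 := by
    refine hU v hv ?_
    have hx : v⁻¹ * (k * v * k⁻¹) ∈ D.posUnipotent F ⊓ D.diagonalSubgroup F := by
      refine Subgroup.mem_inf.2 ⟨mul_mem (inv_mem hv) hvk, ?_⟩
      have e3 : v⁻¹ * (k * v * k⁻¹) = t * (k * t * (n * k⁻¹ * n⁻¹))⁻¹ := by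
        calc v⁻¹ * (k * v * k⁻¹) =
            v⁻¹ * (k * (v * t) * (n * k⁻¹ * n⁻¹)) * (k * t * (n * k⁻¹ * n⁻¹))⁻¹ := by group
          _ = _ := by rw [e1]; group
      rw [e3]
      exact mul_mem ht (inv_mem (mul_mem (mul_mem hk ht) hkn))
    rw [h.posUnipotent_inf_diagonal, Subgroup.mem_bot, inv_mul_eq_one] at hx
    exact hx.symm
  subst hv1
  rw [one_mul] at hcom ⊢
  have hm : t * n ∈ D.monomialSubgroup F := mul_mem (diagonal_le_monomial ht) hn
  -- the monomial part fixes every root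
  have hroot : ∀ r < T.n, ∀ s < T.n, Maps D (t * n) r s → r = s := by
    rintro r hr s hs ⟨a, ha, eM⟩
    refine hinj r hr s hs ?_
    have h1 : X D s (charOf T c s * (a * 1)) = X D s (a * (charOf T c r * 1)) := by
      rw [← key s hs, ← eM 1, ← eM, ← key r hr]
      calc k * (t * n * X D r 1 * (t * n)⁻¹) * k⁻¹ =
          k * (t * n) * X D r 1 * (k * (t * n))⁻¹ := by group
        _ = _ := by rw [hcom]; group
    have h2 := h.X_inj hs h1
    rw [mul_one, mul_one, mul_comm a] at h2
    exact (mul_right_cancel₀ ha h2).symm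
  refine h.mem_diagonal_of_perm hm fun i hi s hs hM => ?_
  have h3 := hroot _ (h.simple_lt hi) s (by have := h.two_mul_half; omega) hM
  have h4 := (h.simple_spec hi).1
  omega

end CfsgLib.Chev.Cert
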