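import Cfsg.Agent.Lib.Chev.GTwoSinger.Embed
import Cfsg.Agent.Lib.Chev.GTwoSinger.Centralizer

/-!
The diagonal subgroup of `G₂` is the image of the diagonal matrices of `SL₃`.
-/

set_option autoImplicit false
set_option maxRecDepth 100000

namespace CfsgLib.Chev.GTwoSinger

open Cfsg.Lie Matrix

variable {K : Type*} [Field K]

/-- The Cartan integers of `p₁`. -/
def carA : Fin 12 → ℤ := ![0, -3, -1, 1, -2, 3, -3, 2, -1, 1, 3, 0]
/-- The Cartan integers of `p₂`. -/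
def carB : Fin 12 → ℤ := ![-1, 1, 0, -1, 1, -2, 2, -1, 1, 0, -1, 1]

theorem car_eq : ∀ s : Fin 12, tabG2.car 0 s = carA s ∧ tabG2.car 1 s = carB s := by decide +kernel

theorem charOf_eq (c : ℕ → K) (s : Fin 12) :
    charOf tabG2 c s = c 0 ^ carA s * c 1 ^ carB s := by
  rw [charOf, show tabG2.l = 2 from rfl, Finset.prod_range_succ, Finset.prod_range_one,
    (car_eq s).1, (car_eq s).2]

/-- The diagonal matrix of a pair of parameters. -/
def dvec (c : ℕ → K) : Fin 3 → K := ![c 1 / c 0, c 0 ^ 2 / c 1, 1 / c 0]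

theorem det_dvec {c : ℕ → K} (h0 : c 0 ≠ 0) (h1 : c 1 ≠ 0) : (Matrix.diagonal (dvec c)).det = 1 := by
  rw [Matrix.det_diagonal, Fin.prod_univ_three]
  simp [dvec]
  field_simp

/-- The diagonal element. -/
def dSL (c : ℕ → K) (h0 : c 0 ≠ 0) (h1 : c 1 ≠ 0) : Matrix.SpecialLinearGroup (Fin 3) K :=
  ⟨Matrix.diagonal (dvec c), det_dvec h0 h1⟩

theorem rhoMat_diag {c : ℕ → K} (h0 : c 0 ≠ 0) (h1 : c 1 ≠ 0) :
    (rhoMat (Matrix.diagonal (dvec c)) : Matrix chevG2.Idx chevG2.Idx K) =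
      torus chevG2 (charOf tabG2 c) := by
  refine Matrix.ext fun row col => ?_
  revert row col
  intro (row : I14) (col : I14)
  change rhoMat (Matrix.diagonal (dvec c)) row col =
    Matrix.diagonal (Sum.elim (fun _ : Fin 2 => (1 : K)) (fun s : Fin 12 => charOf tabG2 c s)) row col
  rw [rhoMat_apply, Matrix.diagonal_apply]
  have key : (Pi.single col (1 : K) : I14 → K) row = if row = col then 1 else 0 := by
    rw [Pi.single_apply]
  rw [show (if row = col then Sum.elim (fun _ : Fin 2 => (1 : K))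
      (fun s : Fin 12 => charOf tabG2 c s) row else 0) =
      Sum.elim (fun _ : Fin 2 => (1 : K)) (fun s : Fin 12 => charOf tabG2 c s) row *
        enc' (dec (Pi.single col (1 : K))) row by
    rw [enc'_dec, key]; split_ifs <;> simp]
  obtain ⟨Y, v, w⟩ := dec (Pi.single col (1 : K))
  rcases row with a | a <;> fin_cases a <;>
    simp [enc', act, dvec, charOf_eq, carA, carB, Matrix.adjugate_fin_three, Matrix.mul_apply,
      Matrix.mulVec, dotProduct, Fin.sum_univ_three, Matrix.diagonal] <;>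
    field_simp <;> simp

theorem coe_rho_dSL {c : ℕ → K} (h0 : c 0 ≠ 0) (h1 : c 1 ≠ 0) :
    (rho K (dSL c h0 h1) : Matrix chevG2.Idx chevG2.Idx K) = torus chevG2 (charOf tabG2 c) :=
  rhoMat_diag h0 h1

theorem exists_dSL {g : GL chevG2.Idx K} (hg : g ∈ chevG2.diagonalSubgroup K) :
    ∃ c : ℕ → K, ∃ h0 : c 0 ≠ 0, ∃ h1 : c 1 ≠ 0, rho K (dSL c h0 h1) = g := by
  obtain ⟨c, hc, e⟩ := certG2.mem_diagonalSubgroup_iff.1 hg
  exact ⟨c, hc 0 (by decide), hc 1 (by decide),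
    Units.ext ((coe_rho_dSL (hc 0 (by decide)) (hc 1 (by decide))).trans e.symm)⟩

/-- The exponents of the eigenvalues of the Singer cycle. -/
def expo (q : ℤ) (s : Fin 12) : ℤ := (q + 1) * carA s + (q + 2) * carB s

theorem expo_inj {q : ℕ} (hq : 3 ≤ q) (r s : Fin 12)
    (h : ((q ^ 2 + q + 1 : ℕ) : ℤ) ∣ expo q r - expo q s) : r = s := by
  rcases eq_or_lt_of_le hq with rfl | h4
  · revert r s; decide +kernel
  have hq4 : (4 : ℤ) ≤ q := by exact_mod_cast h4
  have hN : 4 * (q : ℤ) + 3 ≤ ((q ^ 2 + q + 1 : ℕ) : ℤ) := by push_cast; nlinarith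
  obtain ⟨k, hk⟩ := h
  generalize ((q ^ 2 + q + 1 : ℕ) : ℤ) = N at hN hk
  have hb : -(4 * (q : ℤ) + 2) ≤ expo q r - expo q s ∧ expo q r - expo q s ≤ 4 * (q : ℤ) + 2 := by
    fin_cases r <;> fin_cases s <;> simp [expo, carA, carB] <;> omega
  have hk0 : k = 0 := by
    rcases lt_trichotomy k 0 with h' | h' | h'
    · nlinarith
    · exact h'
    · nlinarith
  rw [hk0, mul_zero] at hk
  clear hb hN
  fin_cases r <;> fin_cases s <;> first | rfl | (exfalso; simp [expo, carA, carB] at hk <;> omega)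

theorem expo_ne {q : ℕ} (hq : 3 ≤ q) (r : Fin 12) : ¬ ((q ^ 2 + q + 1 : ℕ) : ℤ) ∣ expo q r := by
  rcases eq_or_lt_of_le hq with rfl | h4
  · revert r; decide +kernel
  have hq4 : (4 : ℤ) ≤ q := by exact_mod_cast h4
  have hN : 4 * (q : ℤ) + 3 ≤ ((q ^ 2 + q + 1 : ℕ) : ℤ) := by push_cast; nlinarith
  rintro ⟨k, hk⟩
  generalize ((q ^ 2 + q + 1 : ℕ) : ℤ) = N at hN hk
  have hb : -(4 * (q : ℤ) + 2) ≤ expo q r ∧ expo q r ≤ 4 * (q : ℤ) + 2 ∧ expo q r ≠ 0 := by
    fin_cases r <;> simp [expo, carA, carB] <;> omega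
  rcases lt_trichotomy k 0 with h' | h' | h'
  · nlinarith
  · rw [h', mul_zero] at hk; omega
  · nlinarith

end CfsgLib.Chev.GTwoSinger
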