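import Cfsg.Agent.Lib.Chev.All
import Cfsg.Agent.Lib.Chev.Functorial
import Cfsg.Agent.Lib.Classical.Transvection

/-!
`SL₃` inside the Chevalley group of type `G₂`: the adjoint module is `sl₃ ⊕ V ⊕ V*`.
-/

set_option autoImplicit false
set_option maxRecDepth 100000

namespace CfsgLib.Chev.GTwoSinger

open Cfsg.Lie Matrix

/-- The coordinates. -/
abbrev I14 : Type := Fin 2 ⊕ Fin 12

/-- Coroot coordinate. -/
abbrev ci (i : Fin 2) : I14 := Sum.inl i
/-- Root coordinate. -/
abbrev ri (i : Fin 12) : I14 := Sum.inr i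

/-- `sl₃ ⊕ V ⊕ V*`. -/
abbrev M14 (R : Type*) : Type _ := Matrix (Fin 3) (Fin 3) R × (Fin 3 → R) × (Fin 3 → R)

variable {R S : Type*} [CommRing R] [CommRing S]

/-- From coordinates. -/
def dec (u : I14 → R) : M14 R :=
  (!![-u (ci 0) + u (ci 1), u (ri 6), u (ri 11);
      u (ri 5), 2 * u (ci 0) - u (ci 1), u (ri 10);
      u (ri 0), u (ri 1), -u (ci 0)],
    ![u (ri 8), u (ri 7), u (ri 2)], ![u (ri 3), u (ri 4), u (ri 9)])

/-- To coordinates. -/
def enc' (p : M14 R) : I14 → R :=
  Sum.elim ![-p.1 2 2, p.1 0 0 - p.1 2 2]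
    ![p.1 2 0, p.1 2 1, p.2.1 2, p.2.2 0, p.2.2 1, p.1 1 0, p.1 0 1, p.2.1 1, p.2.1 0, p.2.2 2,
      p.1 1 2, p.1 0 2]

theorem enc'_dec (u : I14 → R) : enc' (dec u) = u := by
  funext i
  rcases i with i | i <;> fin_cases i <;> simp [enc', dec]
  all_goals rfl

theorem dec_enc' (p : M14 R) (hp : p.1.trace = 0) : dec (enc' p) = p := by
  obtain ⟨Y, v, w⟩ := p
  rw [Matrix.trace_fin_three] at hp
  simp only [dec, enc', Prod.mk.injEq]
  refine ⟨?_, ?_, ?_⟩
  · ext i j
    fin_cases i <;> fin_cases j <;> simp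
    all_goals linear_combination -hp
  · funext i; fin_cases i <;> simp
  · funext i; fin_cases i <;> simp

theorem trace_dec (u : I14 → R) : (dec u).1.trace = 0 := by
  rw [Matrix.trace_fin_three]; simp [dec]; ring

/-- The action of a matrix. -/
def act (A : Matrix (Fin 3) (Fin 3) R) (p : M14 R) : M14 R :=
  (A * p.1 * A.adjugate, A *ᵥ p.2.1, A.adjugateᵀ *ᵥ p.2.2)

theorem act_act (A B : Matrix (Fin 3) (Fin 3) R) (p : M14 R) :
    act A (act B p) = act (A * B) p := by
  simp only [act, Matrix.adjugate_mul_distrib, Matrix.transpose_mul, ← Matrix.mulVec_mulVec,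
    Matrix.mul_assoc]

theorem act_one (p : M14 R) : act 1 p = p := by simp [act]

theorem trace_act {A : Matrix (Fin 3) (Fin 3) R} (hA : A.det = 1) (p : M14 R) :
    (act A p).1.trace = p.1.trace := by
  simp only [act]
  rw [Matrix.trace_mul_cycle, Matrix.adjugate_mul, hA, one_smul, Matrix.one_mul]

/-- The linear map on coordinates. -/
def lmap (A : Matrix (Fin 3) (Fin 3) R) : (I14 → R) →ₗ[R] (I14 → R) where
  toFun u := enc' (act A (dec u))
  map_add' u v := by
    have h : dec (u + v) = dec u + dec v := by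
      refine Prod.ext ?_ (Prod.ext ?_ ?_)
      · ext i j; fin_cases i <;> fin_cases j <;> simp [dec] <;> ring
      · funext i; fin_cases i <;> simp [dec] <;> ring
      · funext i; fin_cases i <;> simp [dec]
    funext i
    rcases i with i | i <;> fin_cases i <;>
      simp [enc', act, h, Matrix.mul_add, Matrix.add_mul, Matrix.mulVec_add] <;> ring
  map_smul' c v := by
    have h : dec (c • v) = c • dec v := by
      refine Prod.ext ?_ (Prod.ext ?_ ?_)
      · ext i j; fin_cases i <;> fin_cases j <;> simp [dec] <;> ring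
      · funext i; fin_cases i <;> simp [dec]
      · funext i; fin_cases i <;> simp [dec]
    funext i
    rcases i with i | i <;> fin_cases i <;>
      simp [enc', act, h, Matrix.mulVec_smul] <;> ring

/-- The matrix. -/
def rhoMat (A : Matrix (Fin 3) (Fin 3) R) : Matrix I14 I14 R := LinearMap.toMatrix' (lmap A)

theorem rhoMat_apply (A : Matrix (Fin 3) (Fin 3) R) (i j : I14) :
    rhoMat A i j = enc' (act A (dec (Pi.single j 1))) i := by
  simp [rhoMat, LinearMap.toMatrix'_apply, lmap]

theorem rhoMat_one : rhoMat (1 : Matrix (Fin 3) (Fin 3) R) = 1 := by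
  rw [rhoMat, show lmap (1 : Matrix (Fin 3) (Fin 3) R) = LinearMap.id from
    LinearMap.ext fun u => by simp [lmap, act_one, enc'_dec], LinearMap.toMatrix'_id]

theorem rhoMat_mul {B : Matrix (Fin 3) (Fin 3) R} (hB : B.det = 1) (A : Matrix (Fin 3) (Fin 3) R) :
    rhoMat (A * B) = rhoMat A * rhoMat B := by
  rw [rhoMat, rhoMat, rhoMat, ← LinearMap.toMatrix'_comp]
  congr 1
  refine LinearMap.ext fun u => ?_
  show enc' (act (A * B) (dec u)) = enc' (act A (dec (enc' (act B (dec u)))))
  rw [dec_enc' _ (by rw [trace_act hB, trace_dec]), act_act]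

theorem dec_single_map (f : R →+* S) (j : I14) :
    dec (Pi.single j (1 : S)) = ((dec (Pi.single j (1 : R))).1.map f,
      f ∘ (dec (Pi.single j (1 : R))).2.1, f ∘ (dec (Pi.single j (1 : R))).2.2) := by
  have hs : ∀ k : I14, (Pi.single j (1 : S) : I14 → S) k = f ((Pi.single j (1 : R) : I14 → R) k) :=
    fun k => by by_cases hk : k = j <;> simp [hk]
  refine Prod.ext ?_ (Prod.ext ?_ ?_)
  · ext a b; fin_cases a <;> fin_cases b <;> simp [dec, hs, map_ofNat]
  · funext a; fin_cases a <;> simp [dec, hs]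
  · funext a; fin_cases a <;> simp [dec, hs]

theorem rhoMat_map (f : R →+* S) (A : Matrix (Fin 3) (Fin 3) R) :
    rhoMat (A.map f) = (rhoMat A).map f := by
  ext i j
  rw [Matrix.map_apply, rhoMat_apply, rhoMat_apply]
  have h1 := dec_single_map f j
  have h2 : (A.map f).adjugate = A.adjugate.map f := (RingHom.map_adjugate f A).symm
  rw [h1]
  rcases i with i | i <;> fin_cases i <;>
    simp [enc', act, h2, Matrix.mul_apply, Matrix.mulVec, dotProduct, Fin.sum_univ_three]

theorem rhoMat_inj {A B : Matrix (Fin 3) (Fin 3) R} (h : rhoMat A = rhoMat B) : A = B := by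
  have key : ∀ i j, rhoMat A i j = rhoMat B i j := fun i j => by rw [h]
  ext a b
  have h8 := key (ri 8) (ri 8)
  have h87 := key (ri 8) (ri 7)
  have h82 := key (ri 8) (ri 2)
  have h78 := key (ri 7) (ri 8)
  have h77 := key (ri 7) (ri 7)
  have h72 := key (ri 7) (ri 2)
  have h28 := key (ri 2) (ri 8)
  have h27 := key (ri 2) (ri 7)
  have h22 := key (ri 2) (ri 2)
  simp [rhoMat_apply, enc', act, dec, Matrix.mulVec, dotProduct, Fin.sum_univ_three] at h8 h87 h82 h78 h77 h72 h28 h27 h22
  fin_cases a <;> fin_cases b <;> assumption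

/-- The representation. -/
noncomputable def rho (K : Type*) [Field K] :
    Matrix.SpecialLinearGroup (Fin 3) K →* GL chevG2.Idx K :=
  MonoidHom.toHomUnits
    { toFun := fun A => (rhoMat (A : Matrix (Fin 3) (Fin 3) K) : Matrix chevG2.Idx chevG2.Idx K)
      map_one' := rhoMat_one
      map_mul' := fun A B => rhoMat_mul B.2 (A : Matrix (Fin 3) (Fin 3) K) }

variable {K : Type*} [Field K]

theorem coe_rho (A : Matrix.SpecialLinearGroup (Fin 3) K) :
    (rho K A : Matrix chevG2.Idx chevG2.Idx K) = rhoMat (A : Matrix (Fin 3) (Fin 3) K) := rfl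

theorem rho_injective : Function.Injective (rho K) := fun A B h =>
  Subtype.ext (rhoMat_inj (congrArg (fun g : GL chevG2.Idx K => (g : Matrix chevG2.Idx chevG2.Idx K)) h))

theorem rho_map {L : Type*} [Field L] (f : K →+* L) (A : Matrix.SpecialLinearGroup (Fin 3) K) :
    rho L (Matrix.SpecialLinearGroup.map f A) = mapGL chevG2 f (rho K A) :=
  Units.ext (rhoMat_map f _)

/-- The root of a position. -/
def rootOf : Fin 3 → Fin 3 → ℕ := ![![0, 6, 11], ![5, 0, 10], ![0, 1, 0]]

/-- Integer matrices giving the action of a transvection as a polynomial of degree two. -/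
def pol (i j : Fin 3) (k : ℕ) (p : M14 ℤ) : M14 ℤ :=
  let E : Matrix (Fin 3) (Fin 3) ℤ := Matrix.single i j 1
  if k = 0 then p
  else if k = 1 then (E * p.1 - p.1 * E, E *ᵥ p.2.1, -(Eᵀ *ᵥ p.2.2))
  else (-(E * p.1 * E), 0, 0)

/-- The entries of those matrices. -/
def coefQ (i j : Fin 3) (k : ℕ) (row col : I14) : ℤ :=
  enc' (pol i j k (dec (Pi.single col 1))) row

/-- The same, read off the table. -/
noncomputable def coefN (r k : ℕ) (row col : chevG2.Idx) : ℤ :=
  ((tabG2.col r (enc col)).map fun q => if q.1 = enc row ∧ q.2.1 = k then q.2.2 else 0).sum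

theorem coef_check : ∀ i j : Fin 3, i ≠ j → rootOf i j < 12 ∧ ∀ col : I14,
    (∀ q ∈ tabG2.col (rootOf i j) (enc (D := chevG2) col), q.2.1 < 3) ∧
    ∀ row : I14, ∀ k < 3, coefQ i j k row col = coefN (rootOf i j) k row col := by decide +kernel

theorem sum_by_degree {α : Type*} [DecidableEq α] (t : K) (a : α) :
    ∀ l : List (α × ℕ × ℤ), (∀ q ∈ l, q.2.1 < 3) →
      (l.map fun q => if q.1 = a then (q.2.2 : K) * t ^ q.2.1 else 0).sum =
        ((l.map fun q => if q.1 = a ∧ q.2.1 = 0 then q.2.2 else 0).sum : ℤ) +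
        t * ((l.map fun q => if q.1 = a ∧ q.2.1 = 1 then q.2.2 else 0).sum : ℤ) +
        t ^ 2 * ((l.map fun q => if q.1 = a ∧ q.2.1 = 2 then q.2.2 else 0).sum : ℤ)
  | [], _ => by simp
  | q :: l, hl => by
    have ih := sum_by_degree t a l fun x hx => hl x (List.mem_cons_of_mem _ hx)
    have hq := hl q List.mem_cons_self
    obtain ⟨b, e, c⟩ := q
    simp only [List.map_cons, List.sum_cons, ih]
    interval_cases e <;> by_cases hb : b = a <;> simp [hb] <;> ring

theorem adjugate_transvection {i j : Fin 3} (hij : i ≠ j) (t : K) :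
    (Matrix.transvection i j t).adjugate = Matrix.transvection i j (-t) := by
  have h := Matrix.mul_adjugate (Matrix.transvection i j t)
  rw [Matrix.det_transvection_of_ne i j hij, one_smul] at h
  calc (Matrix.transvection i j t).adjugate
      = Matrix.transvection i j (-t) *
          (Matrix.transvection i j t * (Matrix.transvection i j t).adjugate) := by
        rw [← Matrix.mul_assoc, Matrix.transvection_mul_transvection_same i j hij, neg_add_cancel,
          Matrix.transvection_zero, Matrix.one_mul]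
    _ = _ := by rw [h, Matrix.mul_one]

theorem rhoMat_transvection {i j : Fin 3} (hij : i ≠ j) (t : K) :
    (rhoMat (Matrix.transvection i j t) : Matrix chevG2.Idx chevG2.Idx K) =
      chevG2.x K (rootOf i j) t := by
  obtain ⟨hr, hchk⟩ := coef_check i j hij
  refine Matrix.ext fun (row col : chevG2.Idx) => ?_
  obtain ⟨hdeg, hc⟩ := hchk col
  refine Eq.trans ?_ (x_apply certG2.agrees hr t row col).symm
  rw [sum_by_degree t (enc row) _ hdeg]
  have e0 : coefQ i j 0 row col = coefN (rootOf i j) 0 row col := hc row 0 (by norm_num)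
  have e1 : coefQ i j 1 row col = coefN (rootOf i j) 1 row col := hc row 1 (by norm_num)
  have e2 : coefQ i j 2 row col = coefN (rootOf i j) 2 row col := hc row 2 (by norm_num)
  unfold coefN at e0 e1 e2
  rw [← e0, ← e1, ← e2]
  clear e0 e1 e2
  clear hdeg hc hchk hr
  revert row col
  intro (row : I14) (col : I14)
  change rhoMat (Matrix.transvection i j t) row col = _
  generalize hd : dec (Pi.single col (1 : ℤ)) = p
  rw [rhoMat_apply, coefQ, coefQ, coefQ, hd]
  have h1 : dec (Pi.single col (1 : K)) = (p.1.map (Int.cast : ℤ → K), Int.cast ∘ p.2.1,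
      Int.cast ∘ p.2.2) := by
    rw [← hd]
    exact dec_single_map (Int.castRingHom K) col
  obtain ⟨Y, v, w⟩ := p
  rw [h1]
  simp only [pol, act, adjugate_transvection hij]
  have hE : (Matrix.single i j (1 : K)) = (Matrix.single i j (1 : ℤ)).map (Int.cast : ℤ → K) := by
    ext a b; simp [Matrix.single, apply_ite (Int.cast : ℤ → K)]
  have hT : ∀ s : K, Matrix.transvection i j s = 1 + s • Matrix.single i j (1 : K) := fun s => by
    ext a b; simp [Matrix.transvection, Matrix.single]
  rw [hT, hT, hE]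
  generalize Matrix.single i j (1 : ℤ) = E
  rcases row with a | a <;> fin_cases a <;>
    simp [enc', Matrix.mul_apply, Matrix.mulVec, dotProduct, Fin.sum_univ_three, Matrix.one_apply] <;>
    ring

theorem rho_transvection {i j : Fin 3} (hij : i ≠ j) (t : K) :
    rho K (Matrix.SpecialLinearGroup.transvection hij t) = X chevG2 (rootOf i j) t := by
  refine Units.ext ?_
  rw [coe_rho, certG2.coe_X]
  exact rhoMat_transvection hij t

theorem rho_mem_group (A : Matrix.SpecialLinearGroup (Fin 3) K) : rho K A ∈ chevG2.group K := by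
  suffices h : (chevG2.group K).comap (rho K) = ⊤ by
    exact Subgroup.mem_comap.1 (h ▸ Subgroup.mem_top A)
  refine Classical.eq_top_of_transvection_mem _ fun i j hij c => ?_
  rw [Subgroup.mem_comap, rho_transvection hij]
  exact certG2.X_mem_group (coef_check i j hij).1 c

end CfsgLib.Chev.GTwoSinger
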