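import Cfsg.Agent.Lib.Chev.GTwoSinger.Diag

/-!
The Singer cycle of `SL₃(q)` generates a self-centralizing subgroup of `G₂(q)`.
-/

set_option autoImplicit false
set_option linter.style.haveILetI false

namespace CfsgLib.Chev.GTwoSinger

open Cfsg.Lie Matrix

/-- A matrix diagonalizing the regular representation of a cubic extension. -/
theorem exists_diagonalizer {F L : Type*} [Field F] [Field L] [Algebra F L] [Fintype F] [Finite L]
    (hd : Module.finrank F L = 3) (b : Module.Basis (Fin 3) F L) :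
    ∃ M : Matrix.SpecialLinearGroup (Fin 3) L, ∀ x : L,
      (M : Matrix (Fin 3) (Fin 3) L) * (Algebra.leftMulMatrix b x).map (algebraMap F L) =
        Matrix.diagonal ![x, x ^ Fintype.card F, x ^ Fintype.card F ^ 2] *
          (M : Matrix (Fin 3) (Fin 3) L) := by
  have : Module.Finite F L := Module.finite_of_finrank_pos (hd ▸ by norm_num)
  set q := Fintype.card F
  set σ := FiniteField.frobeniusAlgEquivOfAlgebraic F L
  have hσ : ∀ (k : ℕ) (x : L), (σ ^ k) x = x ^ q ^ k := fun k x => by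
    rw [AlgEquiv.coe_pow, FiniteField.coe_frobeniusAlgEquivOfAlgebraic_iterate]
  let M₀ : Matrix (Fin 3) (Fin 3) L := Matrix.of fun k i => (σ ^ (k : ℕ)) (b i)
  have hdiag : ∀ x : L, M₀ * (Algebra.leftMulMatrix b x).map (algebraMap F L) =
      Matrix.diagonal ![x, x ^ q, x ^ q ^ 2] * M₀ := by
    intro x
    ext k j
    rw [Matrix.diagonal_mul, Matrix.mul_apply]
    have h1 : ∑ i, Algebra.leftMulMatrix b x i j • b i = x * b j := by
      simp only [Algebra.leftMulMatrix_eq_repr_mul]
      exact b.sum_repr _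
    have h2 : ![x, x ^ q, x ^ q ^ 2] k = (σ ^ (k : ℕ)) x := by
      rw [hσ]; fin_cases k <;> simp
    rw [h2, show (σ ^ (k : ℕ)) x * M₀ k j = (σ ^ (k : ℕ)) (x * b j) from (map_mul _ _ _).symm, ← h1,
      map_sum]
    refine Finset.sum_congr rfl fun i _ => ?_
    rw [map_smul, Algebra.smul_def, Matrix.map_apply, mul_comm]
    rfl
  have hM : M₀.det ≠ 0 := by
    intro h0
    obtain ⟨v, hv, hv0⟩ := (Matrix.exists_vecMul_eq_zero_iff).2 h0
    apply hv
    have hli : LinearIndependent L (fun k : Fin 3 => ((σ ^ (k : ℕ) : L ≃ₐ[F] L) : L → L)) := by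
      have hinj : Function.Injective fun k : Fin 3 => ((σ ^ (k : ℕ) : L ≃ₐ[F] L) : L →* L) := by
        intro a c hac
        have hb := (FiniteField.bijective_frobeniusAlgEquivOfAlgebraic_pow F L).1
          (a₁ := ⟨a, hd.symm ▸ a.2⟩) (a₂ := ⟨c, hd.symm ▸ c.2⟩)
          (AlgEquiv.ext fun y => DFunLike.congr_fun hac y)
        exact Fin.ext (Fin.mk.inj hb)
      exact (linearIndependent_monoidHom L L).comp _ hinj
    rw [Fintype.linearIndependent_iff] at hli
    funext k
    refine hli v (funext fun y => ?_) k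
    simp only [Finset.sum_apply, Pi.smul_apply, smul_eq_mul, Pi.zero_apply]
    rw [← b.sum_repr y]
    simp only [map_sum, map_smul, Finset.mul_sum]
    rw [Finset.sum_comm]
    refine Finset.sum_eq_zero fun i _ => ?_
    have h3 := congrFun hv0 i
    simp only [Matrix.vecMul, dotProduct, M₀, Matrix.of_apply, Pi.zero_apply] at h3
    simp only [Algebra.smul_def]
    calc ∑ k : Fin 3, v k * (algebraMap F L (b.repr y i) * (σ ^ (k : ℕ)) (b i))
        = algebraMap F L (b.repr y i) * ∑ k : Fin 3, v k * (σ ^ (k : ℕ)) (b i) := by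
          rw [Finset.mul_sum]; exact Finset.sum_congr rfl fun k _ => by ring
      _ = 0 := by rw [h3, mul_zero]
  let d : Fin 3 → L := ![M₀.det⁻¹, 1, 1]
  refine ⟨⟨Matrix.diagonal d * M₀, ?_⟩, fun x => ?_⟩
  · rw [Matrix.det_mul, Matrix.det_diagonal, Fin.prod_univ_three]
    simp [d, hM]
  · show Matrix.diagonal d * M₀ * _ = _ * (Matrix.diagonal d * M₀)
    rw [Matrix.mul_assoc, hdiag, ← Matrix.mul_assoc, ← Matrix.mul_assoc,
      Matrix.diagonal_mul_diagonal, Matrix.diagonal_mul_diagonal]
    simp only [mul_comm]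

/-- A matrix commuting with a generator of the cubic extension is a multiplication. -/
theorem eq_leftMulMatrix {F L : Type*} [Field F] [Field L] [Algebra F L]
    (hd : Module.finrank F L = 3) (b : Module.Basis (Fin 3) F L) {z : L}
    (hz : z ∉ (⊥ : Subalgebra F L)) {X : Matrix (Fin 3) (Fin 3) F}
    (h : Commute X (Algebra.leftMulMatrix b z)) : ∃ l : L, X = Algebra.leftMulMatrix b l := by
  set T := Matrix.toLin b b X with hT
  have hmul : ∀ y : L, Matrix.toLin b b (Algebra.leftMulMatrix b y) = LinearMap.mulLeft F y := fun y => by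
    rw [Algebra.leftMulMatrix_apply, Matrix.toLin_toMatrix]
    rfl
  let S : Subalgebra F L :=
    { carrier := {l | ∀ y, T (l * y) = l * T y}
      mul_mem' := fun {a c} ha hc y => by rw [mul_assoc, ha, hc, mul_assoc]
      one_mem' := fun y => by simp
      add_mem' := fun {a c} ha hc y => by rw [add_mul, map_add, ha, hc, add_mul]
      zero_mem' := fun y => by simp
      algebraMap_mem' := fun r y => by rw [← Algebra.smul_def, map_smul, Algebra.smul_def] }
  have hzS : z ∈ S := fun y => by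
    have h1 := congrArg (Matrix.toLin b b) h.eq
    rw [Matrix.toLin_mul b b b, Matrix.toLin_mul b b b, hmul] at h1
    exact LinearMap.congr_fun h1 y
  have hS : S = ⊤ := by
    have := Subalgebra.isSimpleOrder_of_finrank_prime F L (by rw [hd]; norm_num)
    exact (eq_bot_or_eq_top S).resolve_left fun hb => hz (hb ▸ hzS)
  refine ⟨T 1, (Matrix.toLin b b).injective ?_⟩
  rw [hmul]
  refine LinearMap.ext fun y => ?_
  have h1 : y ∈ S := hS ▸ Algebra.mem_top
  have h2 := h1 1
  rw [mul_one] at h2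
  show T y = T 1 * y
  rw [h2, mul_comm]

/-- The Singer element. -/
theorem exists_singer {F : Type*} [Field F] [Fintype F] (q : ℕ) (hF : Fintype.card F = q) (hq : 3 ≤ q) :
    ∃ H : Subgroup ↥(chevG2.group F), IsCyclic ↥H ∧ Nat.card ↥H = q ^ 2 + q + 1 ∧
      Subgroup.centralizer (H : Set ↥(chevG2.group F)) = H := by
  classical
  obtain ⟨p, _⟩ := CharP.exists F
  obtain ⟨e, hp, -⟩ := FiniteField.card F p
  have := Fact.mk hp
  let L := FiniteField.Extension F p 3
  have : Fintype L := Fintype.ofFinite L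
  have hd : Module.finrank F L = 3 := FiniteField.finrank_extension F p 3
  have hL : Nat.card L = q ^ 3 := by
    rw [show Nat.card L = Nat.card (FiniteField.Extension F p 3) from rfl,
      FiniteField.natCard_extension, Nat.card_eq_fintype_card, hF]
  let b : Module.Basis (Fin 3) F L := Module.finBasisOfFinrankEq F L hd
  set N := q ^ 2 + q + 1 with hN
  obtain ⟨u, hu⟩ := IsCyclic.exists_ofOrder_eq_natCard (α := Lˣ)
  have hcu : Nat.card Lˣ = (q - 1) * N := by
    rw [Nat.card_units, hL, hN]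
    obtain ⟨r, rfl⟩ : ∃ r, q = r + 1 := ⟨q - 1, by omega⟩
    simp only [Nat.add_sub_cancel]
    have : (r + 1) ^ 3 = r * ((r + 1) ^ 2 + (r + 1) + 1) + 1 := by ring
    omega
  set zu := u ^ (q - 1) with hzu
  have hzo : orderOf zu = N := by
    rw [hzu, orderOf_pow_of_dvd (by omega) (by rw [hu, hcu]; exact dvd_mul_right _ _), hu, hcu,
      Nat.mul_div_cancel_left _ (by omega)]
  set z : L := (zu : L) with hz
  have hzN : z ^ N = 1 := by rw [hz, ← Units.val_pow_eq_pow_val, ← hzo, pow_orderOf_eq_one, Units.val_one]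
  have hnorm : ∀ x : L, algebraMap F L (Algebra.norm F x) = x ^ N := fun x => by
    rw [FiniteField.algebraMap_norm_eq_pow_sum, hd, Nat.card_eq_fintype_card, hF, hN]
    congr 1
    simp [Finset.sum_range_succ]; ring
  have hdet : ∀ x : L, x ^ N = 1 → (Algebra.leftMulMatrix b x).det = 1 := fun x hx => by
    rw [← Algebra.norm_eq_matrix_det]
    exact (algebraMap F L).injective (by rw [hnorm, hx, map_one])
  let sA : Matrix.SpecialLinearGroup (Fin 3) F := ⟨_, hdet z hzN⟩
  let g : ↥(chevG2.group F) := ⟨rho F sA, rho_mem_group sA⟩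
  have hgo : orderOf g = N := by
    rw [show orderOf g = orderOf (rho F sA) from (Subgroup.orderOf_coe g).symm,
      orderOf_injective (rho F) rho_injective, ← hzo]
    let φ : Matrix.SpecialLinearGroup (Fin 3) F →* Matrix (Fin 3) (Fin 3) F :=
      { toFun := fun A => (A : Matrix (Fin 3) (Fin 3) F), map_one' := rfl, map_mul' := fun _ _ => rfl }
    rw [← orderOf_injective φ Subtype.val_injective sA,
      show φ sA = Algebra.leftMulMatrix b z from rfl,
      ← orderOf_units (y := zu)]
    exact orderOf_injective (Algebra.leftMulMatrix b : L →* Matrix (Fin 3) (Fin 3) F)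
      (Algebra.leftMulMatrix_injective b) z
  refine ⟨Subgroup.zpowers g, inferInstance, by rw [Nat.card_zpowers, hgo], le_antisymm ?_ ?_⟩
  swap
  · intro x hx
    rw [Subgroup.mem_centralizer_iff]
    intro y hy
    obtain ⟨i, rfl⟩ := Subgroup.mem_zpowers_iff.1 hx
    obtain ⟨j, rfl⟩ := Subgroup.mem_zpowers_iff.1 hy
    rw [← _root_.zpow_add, ← _root_.zpow_add, add_comm]
  intro x hx
  have hxg : g * x = x * g := Subgroup.mem_centralizer_iff.1 hx g (Subgroup.mem_zpowers g)
  set f := algebraMap F L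
  obtain ⟨M, hM⟩ := exists_diagonalizer hd b
  -- the diagonal form
  let c : ℕ → L := fun i => if i = 0 then z ^ (q + 1) else z ^ (q + 2)
  have hz0 : z ≠ 0 := Units.ne_zero _
  have h0 : c 0 ≠ 0 := pow_ne_zero _ hz0
  have h1 : c 1 ≠ 0 := pow_ne_zero _ hz0
  have hdv : dvec c = ![z, z ^ Fintype.card F, z ^ Fintype.card F ^ 2] := by
    rw [hF]
    funext k
    fin_cases k
    · show z ^ (q + 2) / z ^ (q + 1) = z
      rw [div_eq_iff (pow_ne_zero _ hz0), ← pow_succ']
    · show (z ^ (q + 1)) ^ 2 / z ^ (q + 2) = z ^ q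
      rw [div_eq_iff (pow_ne_zero _ hz0), ← pow_mul, ← pow_add]
      ring_nf
    · simp only [dvec, c]
      show 1 / z ^ (q + 1) = z ^ q ^ 2
      rw [div_eq_iff (pow_ne_zero _ hz0), ← pow_add, ← hzN, hN]
      ring_nf
  set D := dSL c h0 h1
  have hrel : M * Matrix.SpecialLinearGroup.map f sA = D * M := Subtype.ext (by
    show (M : Matrix (Fin 3) (Fin 3) L) * (Algebra.leftMulMatrix b z).map f =
      Matrix.diagonal (dvec c) * (M : Matrix (Fin 3) (Fin 3) L)
    rw [hdv]; exact hM z)
  set xL := mapGL chevG2 f (x : GL chevG2.Idx F)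
  set x' := rho L M * xL * (rho L M)⁻¹ with hx'
  have hgL : mapGL chevG2 f (g : GL chevG2.Idx F) = (rho L M)⁻¹ * rho L D * rho L M := by
    rw [show (g : GL chevG2.Idx F) = rho F sA from rfl, ← rho_map, ← map_inv, ← map_mul, ← map_mul,
      mul_assoc, ← hrel, inv_mul_cancel_left]
  have hcom : rho L D * x' = x' * rho L D := by
    have h2 : mapGL chevG2 f (g : GL chevG2.Idx F) * xL = xL * mapGL chevG2 f (g : GL chevG2.Idx F) := by
      rw [← map_mul, ← map_mul, ← Subgroup.coe_mul, hxg, Subgroup.coe_mul]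
    rw [hgL] at h2
    calc rho L D * x' = rho L M * ((rho L M)⁻¹ * rho L D * rho L M * xL) * (rho L M)⁻¹ := by
          rw [hx']; group
      _ = _ := by rw [h2, hx']; group
  have hchar : ∀ s : Fin 12, charOf tabG2 c s = ((zu ^ expo q s : Lˣ) : L) := fun s => by
    rw [charOf_eq, Units.val_zpow_eq_zpow_val, ← hz, expo, zpow_add₀ hz0, _root_.zpow_mul,
      _root_.zpow_mul]
    congr 2 <;> simp [c, ← zpow_natCast]
  have hdiag : x' ∈ chevG2.diagonalSubgroup L := by
    refine certG2.mem_diagonal_of_commute (c := c) ?_ (coe_rho_dSL h0 h1) ?_ ?_ ?_ hcom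
    · intro i hi
      have hi' : i < 2 := hi
      interval_cases i
      · exact h0
      · exact h1
    · intro r hr h
      rw [show r = ((⟨r, hr⟩ : Fin 12) : ℕ) from rfl, hchar, ← Units.val_one, Units.val_inj,
        ← orderOf_dvd_iff_zpow_eq_one, hzo] at h
      exact expo_ne hq _ h
    · intro r hr s hs h
      rw [show r = ((⟨r, hr⟩ : Fin 12) : ℕ) from rfl, show s = ((⟨s, hs⟩ : Fin 12) : ℕ) from rfl,
        hchar, hchar, Units.val_inj, zpow_eq_zpow_iff_modEq, hzo, Int.modEq_comm,
        Int.modEq_iff_dvd] at h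
      exact congrArg Fin.val (expo_inj hq _ _ h)
    · exact mul_mem (mul_mem (rho_mem_group M) (certG2.map_mem_group f x.2))
        (inv_mem (rho_mem_group M))
  obtain ⟨c', h0', h1', ec⟩ := exists_dSL hdiag
  obtain ⟨Y, hY⟩ : ∃ Y, rho L Y = xL := by
    refine ⟨M⁻¹ * dSL c' h0' h1' * M, ?_⟩
    rw [map_mul, map_mul, map_inv, ec, hx']; group
  have hYD : Matrix.SpecialLinearGroup.map f sA * Y = Y * Matrix.SpecialLinearGroup.map f sA := by
    apply rho_injective
    rw [map_mul, map_mul, hY, rho_map, ← map_mul, ← map_mul]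
    exact congrArg (fun a : ↥(chevG2.group F) => mapGL chevG2 f (a : GL chevG2.Idx F)) hxg
  -- the matrix over the ground field
  let X : Matrix (Fin 3) (Fin 3) F := Matrix.of fun i j =>
    ((x : GL chevG2.Idx F) : Matrix chevG2.Idx chevG2.Idx F)
      (ri (![8, 7, 2] i)) (ri (![8, 7, 2] j))
  have hXY : X.map f = (Y : Matrix (Fin 3) (Fin 3) L) := by
    ext i j
    have h2 : rhoMat (Y : Matrix (Fin 3) (Fin 3) L) (ri (![8, 7, 2] i)) (ri (![8, 7, 2] j)) =
        f (X i j) :=
      congrArg (fun a : GL chevG2.Idx L => (a : Matrix chevG2.Idx chevG2.Idx L)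
        (ri (![8, 7, 2] i)) (ri (![8, 7, 2] j))) hY
    rw [Matrix.map_apply, ← h2]
    fin_cases i <;> fin_cases j <;>
      simp [rhoMat_apply, enc', act, dec, Matrix.mulVec, dotProduct, Fin.sum_univ_three]
  have hXdet : X.det = 1 := f.injective (by
    rw [RingHom.map_det, RingHom.mapMatrix_apply, hXY, map_one]; exact Y.2)
  let sX : Matrix.SpecialLinearGroup (Fin 3) F := ⟨X, hXdet⟩
  have hmX : Matrix.SpecialLinearGroup.map f sX = Y := Subtype.ext hXY
  have hxX : (x : GL chevG2.Idx F) = rho F sX := by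
    apply mapGL_injective chevG2 f
    rw [← rho_map, hmX, hY]
  have hXz : Commute X (Algebra.leftMulMatrix b z) := by
    apply Matrix.map_injective f.injective
    show (X * Algebra.leftMulMatrix b z).map f = (Algebra.leftMulMatrix b z * X).map f
    rw [Matrix.map_mul, Matrix.map_mul, hXY]
    exact congrArg Subtype.val hYD.symm
  have hzbot : z ∉ (⊥ : Subalgebra F L) := by
    intro hb
    obtain ⟨a, ha⟩ := Algebra.mem_bot.1 hb
    have ha0 : a ≠ 0 := fun h => hz0 (by rw [← ha, h, map_zero])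
    have h2 : z ^ (q - 1) = 1 := by
      rw [← ha, ← map_pow, ← hF, FiniteField.pow_card_sub_one_eq_one a ha0, map_one]
    rw [hz, ← Units.val_pow_eq_pow_val, Units.val_eq_one,
      ← orderOf_dvd_iff_pow_eq_one, hzo] at h2
    have := Nat.le_of_dvd (by omega) h2
    omega
  obtain ⟨l, hl⟩ := eq_leftMulMatrix hd b hzbot hXz
  have hlN : l ^ N = 1 := by
    rw [← hnorm, Algebra.norm_eq_matrix_det b, ← hl, hXdet, map_one]
  have hl0 : l ≠ 0 := fun h => by rw [h, zero_pow (by omega)] at hlN; exact zero_ne_one hlN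
  obtain ⟨i, hi⟩ : Units.mk0 l hl0 ∈ Subgroup.zpowers zu := by
    have hgen : ∀ y : Lˣ, y ∈ Subgroup.zpowers u := fun y => by
      rw [Subgroup.eq_top_of_card_eq (Subgroup.zpowers u) (by rw [Nat.card_zpowers, hu])]
      exact Subgroup.mem_top y
    obtain ⟨m, hm⟩ := Subgroup.mem_zpowers_iff.1 (hgen (Units.mk0 l hl0))
    have h2 : u ^ (m * N) = 1 := by
      rw [_root_.zpow_mul, hm, zpow_natCast]
      exact Units.ext (by rw [Units.val_pow_eq_pow_val, Units.val_mk0, hlN, Units.val_one])
    rw [← orderOf_dvd_iff_zpow_eq_one, hu, hcu, Nat.cast_mul] at h2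
    obtain ⟨i, hi⟩ := Int.dvd_of_mul_dvd_mul_right (by omega) h2
    exact ⟨i, by rw [← hm, hi, hzu, _root_.zpow_mul, zpow_natCast]⟩
  refine Subgroup.mem_zpowers_iff.2 ⟨i, Subtype.ext ?_⟩
  rw [SubgroupClass.coe_zpow, show (g : GL chevG2.Idx F) = rho F sA from rfl, ← map_zpow, hxX]
  congr 1
  refine Subtype.ext ?_
  show ((sA ^ i : Matrix.SpecialLinearGroup (Fin 3) F) : Matrix (Fin 3) (Fin 3) F) = X
  rw [hl, ← show ((zu ^ i : Lˣ) : L) = l from congrArg Units.val hi]
  let ψ : Lˣ →* (Matrix (Fin 3) (Fin 3) F)ˣ := Units.map (Algebra.leftMulMatrix b : L →* _)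
  let χ : Matrix.SpecialLinearGroup (Fin 3) F →* (Matrix (Fin 3) (Fin 3) F)ˣ :=
    Matrix.SpecialLinearGroup.toGL
  have h3 : χ (sA ^ i) = ψ (zu ^ i) := by
    rw [map_zpow, map_zpow]; congr 1; exact Units.ext rfl
  exact congrArg Units.val h3

end CfsgLib.Chev.GTwoSinger
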